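import Groth.Agent.Lib.AssPts.Flat
import Groth.Prelude.Def_FDesc
import Mathlib.RingTheory.Ideal.AssociatedPrime.Localization
import Mathlib.AlgebraicGeometry.Morphisms.SchemeTheoreticallyDominant
import Mathlib.AlgebraicGeometry.Morphisms.UniversallyOpen
import Mathlib.AlgebraicGeometry.Morphisms.Etale
import Mathlib.AlgebraicGeometry.Noetherian
import Mathlib.RingTheory.Unramified.LocalRing

/-!
# Schematic dominance of flat morphisms and associated points
-/

set_option autoImplicit false
set_option linter.all false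
set_option backward.isDefEq.respectTransparency false
universe u

open CategoryTheory Limits AlgebraicGeometry TopologicalSpace

noncomputable section

namespace GrothLib.SchDomAss10

variable {E X : Scheme.{u}}

theorem mem_primeIdealOf_iff {U : E.Opens} (hU : IsAffineOpen U) (y : U) (a : Γ(E, U)) :
    a ∈ (hU.primeIdealOf y).asIdeal ↔ E.presheaf.germ U y.1 y.2 a ∈ IsLocalRing.maximalIdeal _ := by
  letI := TopCat.Presheaf.algebra_section_stalk E.presheaf y
  haveI := hU.isLocalization_stalk y
  exact (IsLocalization.AtPrime.to_map_mem_maximal_iff (E.presheaf.stalk y.1) (hU.primeIdealOf y).asIdeal a).symm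

theorem specializes_of_le {U : E.Opens} (hU : IsAffineOpen U) (e y : U)
    (h : (hU.primeIdealOf e).asIdeal ≤ (hU.primeIdealOf y).asIdeal) : e.1 ⤳ y.1 := by
  have h1 : hU.primeIdealOf e ⤳ hU.primeIdealOf y := (PrimeSpectrum.le_iff_specializes _ _).1 h
  have h2 := h1.map hU.fromSpec.continuous
  rw [hU.fromSpec_primeIdealOf, hU.fromSpec_primeIdealOf] at h2
  exact h2

/-- An associated point is cut out by a section on an affine neighbourhood. -/
theorem exists_section [IsLocallyNoetherian E] {U : E.Opens} (hU : IsAffineOpen U) (e : U)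
    (he : Curv2.IsAssPoint (Coh.structureModule E) e.1) :
    ∃ s : Γ(E, U), s ≠ 0 ∧ ∀ a ∈ (hU.primeIdealOf e).asIdeal, a * s = 0 := by
  rw [GrothLib.AssPts.isAssPoint_structure_iff] at he
  letI := TopCat.Presheaf.algebra_section_stalk E.presheaf e
  haveI := hU.isLocalization_stalk e
  haveI : IsNoetherianRing Γ(E, U) := IsLocallyNoetherian.component_noetherian ⟨U, hU⟩
  have h1 := Module.associatedPrimes.comap_mem_associatedPrimes_of_mem_associatedPrimes_of_isLocalizedModule_of_fg
    (hU.primeIdealOf e).asIdeal.primeCompl (Algebra.linearMap Γ(E, U) (E.presheaf.stalk e.1))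
    (IsLocalRing.maximalIdeal (E.presheaf.stalk e.1)) he (IsNoetherian.noetherian _)
  rw [show Ideal.comap (algebraMap Γ(E, U) (E.presheaf.stalk e.1)) (IsLocalRing.maximalIdeal _) =
    (hU.primeIdealOf e).asIdeal from IsLocalization.AtPrime.comap_maximalIdeal (E.presheaf.stalk e.1) (hU.primeIdealOf e).asIdeal] at h1
  obtain ⟨hp, s, hs⟩ := isAssociatedPrime_iff.1 h1
  refine ⟨s, fun h0 => hp.ne_top ?_, fun a ha => ?_⟩
  · rw [Ideal.eq_top_iff_one, hs, Submodule.mem_colon_singleton, h0, smul_zero]
    exact Submodule.zero_mem _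
  · rw [hs, Submodule.mem_colon_singleton, Submodule.mem_bot] at ha
    exact ha

/-- A flat morphism that is scheme theoretically dominant hits all associated points. -/
theorem mem_range_of_isAssPoint [IsLocallyNoetherian E] (u : X ⟶ E) [Flat u] [IsSchemeTheoreticallyDominant u]
    (e : E) (he : Curv2.IsAssPoint (Coh.structureModule E) e) : e ∈ Set.range u := by
  by_contra hne
  let V : E.Opens := ⟨(closure {e})ᶜ, isClosed_closure.isOpen_compl⟩
  have hr : Set.range u ⊆ (V : Set E) := by
    rintro _ ⟨x, rfl⟩ hx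
    obtain ⟨x', -, rfl⟩ := Flat.generalizingMap u (specializes_iff_mem_closure.2 hx)
    exact hne ⟨x', rfl⟩
  have hV : V.ι.ker = ⊥ := by
    refine eq_bot_iff.2 ?_
    rw [← IsSchemeTheoreticallyDominant.ker_eq_bot u]
    rw [← IsOpenImmersion.lift_fac V.ι u (by rw [Scheme.Opens.range_ι]; exact hr)]
    exact Scheme.Hom.le_ker_comp _ _
  obtain ⟨U, hU, heU, -⟩ := exists_isAffineOpen_mem_and_subset (Opens.mem_top e)
  obtain ⟨s, hs0, hs⟩ := exists_section hU ⟨e, heU⟩ he
  have h0 : V.ι.app U s = 0 := by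
    rw [Scheme.Opens.ι_app]
    refine TopCat.Presheaf.section_ext E.sheaf _ _ _ fun y hy => ?_
    have hyV : y ∈ V := by
      obtain ⟨z, -, rfl⟩ := hy
      exact z.2
    have hyU : y ∈ U := (V.ι.image_preimage_le U) hy
    rw [map_zero]
    refine (TopCat.Presheaf.germ_res_apply E.presheaf _ y hy s).trans ?_
    have hnle : ¬ (hU.primeIdealOf ⟨e, heU⟩).asIdeal ≤ (hU.primeIdealOf ⟨y, hyU⟩).asIdeal :=
      fun h => hyV (specializes_iff_mem_closure.1 (specializes_of_le hU _ _ h))
    obtain ⟨a, ha, hay⟩ := SetLike.not_le_iff_exists.1 hnle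
    rw [mem_primeIdealOf_iff, IsLocalRing.mem_maximalIdeal, mem_nonunits_iff, not_not] at hay
    refine hay.mul_right_eq_zero.1 ?_
    rw [← map_mul, hs a ha, map_zero]
  have hmem : s ∈ V.ι.ker.ideal ⟨U, hU⟩ := by
    rw [Scheme.Hom.ker_apply]
    exact h0
  rw [hV] at hmem
  exact hs0 (by simpa using hmem)

/-- A flat morphism hitting all associated points is scheme theoretically dominant. -/
theorem isSchemeTheoreticallyDominant_of_ass [IsLocallyNoetherian E] (u : X ⟶ E) [Flat u]
    (h : ∀ e : E, Curv2.IsAssPoint (Coh.structureModule E) e → e ∈ Set.range u) :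
    IsSchemeTheoreticallyDominant u := by
  refine ⟨eq_bot_iff.2 fun U => ?_⟩
  intro s hs
  have hs' : u.app U.1 s = 0 := (Scheme.Hom.ideal_ker_le u U) hs
  haveI : IsNoetherianRing Γ(E, U.1) := IsLocallyNoetherian.component_noetherian U
  by_contra hs0
  have hs0' : s ≠ 0 := by simpa using hs0
  obtain ⟨P, hP, hle⟩ := exists_le_isAssociatedPrime_of_isNoetherianRing Γ(E, U.1) s hs0'
  haveI := hP.isPrime
  let q : PrimeSpectrum Γ(E, U.1) := ⟨P, hP.isPrime⟩
  have hq : U.2.fromSpec q ∈ U.1 := U.2.range_fromSpec.le ⟨q, rfl⟩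
  letI := TopCat.Presheaf.algebra_section_stalk E.presheaf (⟨U.2.fromSpec q, hq⟩ : U.1)
  haveI : IsLocalization.AtPrime (E.presheaf.stalk (U.2.fromSpec q)) P := U.2.isLocalization_stalk' q hq
  have hass : Curv2.IsAssPoint (Coh.structureModule E) (U.2.fromSpec q) := by
    rw [GrothLib.AssPts.isAssPoint_structure_iff]
    refine Module.associatedPrimes.mem_associatedPrimes_of_comap_mem_associatedPrimes_of_isLocalizedModule
      P.primeCompl (Algebra.linearMap Γ(E, U.1) (E.presheaf.stalk (U.2.fromSpec q)))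
      (IsLocalRing.maximalIdeal (E.presheaf.stalk (U.2.fromSpec q))) ?_
    rw [show Ideal.comap (algebraMap Γ(E, U.1) (E.presheaf.stalk (U.2.fromSpec q))) (IsLocalRing.maximalIdeal _) = P
      from IsLocalization.AtPrime.comap_maximalIdeal (E.presheaf.stalk (U.2.fromSpec q)) P]
    exact hP
  obtain ⟨x, hx⟩ := h _ hass
  have hxU : u x ∈ U.1 := by rw [hx]; exact hq
  have hg : u.stalkMap x (E.presheaf.germ U.1 (u x) hxU s) = 0 := by
    rw [Scheme.Hom.germ_stalkMap_apply, hs', map_zero]
  have hinj : Function.Injective (u.stalkMap x).hom := by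
    letI := (u.stalkMap x).hom.toAlgebra
    haveI : Module.Flat (E.presheaf.stalk (u x)) (X.presheaf.stalk x) := Flat.stalkMap u x
    haveI : IsLocalHom (algebraMap (E.presheaf.stalk (u x)) (X.presheaf.stalk x)) :=
      inferInstanceAs (IsLocalHom (u.stalkMap x).hom)
    haveI := Module.FaithfullyFlat.of_flat_of_isLocalHom (A := E.presheaf.stalk (u x)) (B := X.presheaf.stalk x)
    exact FaithfulSMul.algebraMap_injective _ _
  have hz : E.presheaf.germ U.1 (u x) hxU s = 0 := hinj (hg.trans (map_zero _).symm)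
  have key : ∀ (z : E) (_ : z = U.2.fromSpec q) (hz : z ∈ U.1), E.presheaf.germ U.1 z hz s = 0 →
      algebraMap Γ(E, U.1) (E.presheaf.stalk (U.2.fromSpec q)) s = 0 := by
    rintro z rfl _ h; exact h
  obtain ⟨⟨t, ht⟩, hts⟩ := (IsLocalization.map_eq_zero_iff P.primeCompl _ s).1 (key _ hx hxU hz)
  refine ht (hle ?_)
  rw [Submodule.mem_colon_singleton, Submodule.mem_bot]
  exact hts

theorem isSchemeTheoreticallyDominant_iff_ass [IsLocallyNoetherian E] (u : X ⟶ E) [Flat u] :
    IsSchemeTheoreticallyDominant u ↔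
      ∀ e : E, Curv2.IsAssPoint (Coh.structureModule E) e → e ∈ Set.range u :=
  ⟨fun _ e he => mem_range_of_isAssPoint u e he, isSchemeTheoreticallyDominant_of_ass u⟩

/-- Associated points along an étale morphism. -/
theorem isAssPoint_iff_of_etale {S : Scheme.{u}} [IsLocallyNoetherian S] (g : E ⟶ S) [Etale g] (e : E) :
    Curv2.IsAssPoint (Coh.structureModule E) e ↔ Curv2.IsAssPoint (Coh.structureModule S) (g e) := by
  refine ⟨GrothLib.AssPts.map_mem_ass g _ (GrothLib.AssPts.isFlatOverAt_structure g e), fun h => ?_⟩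
  rw [GrothLib.AssPts.isAssPoint_structure_iff] at h ⊢
  obtain ⟨-, a, ha⟩ := isAssociatedPrime_iff.1 h
  letI := (g.stalkMap e).hom.toAlgebra
  haveI : IsLocalHom (algebraMap (S.presheaf.stalk (g e)) (E.presheaf.stalk e)) :=
    inferInstanceAs (IsLocalHom (g.stalkMap e).hom)
  haveI : Module.Flat (S.presheaf.stalk (g e)) (E.presheaf.stalk e) := Flat.stalkMap g e
  haveI : Algebra.EssFiniteType (S.presheaf.stalk (g e)) (E.presheaf.stalk e) :=
    LocallyOfFiniteType.stalkMap g e
  haveI : Algebra.FormallyUnramified (S.presheaf.stalk (g e)) (E.presheaf.stalk e) :=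
    AlgebraicGeometry.FormallyUnramified.stalkMap g e
  haveI := Module.FaithfullyFlat.of_flat_of_isLocalHom (A := S.presheaf.stalk (g e)) (B := E.presheaf.stalk e)
  have ha0 : a ≠ 0 := fun h0 => (IsLocalRing.maximalIdeal.isMaximal (S.presheaf.stalk (g e))).ne_top (by
    rw [Ideal.eq_top_iff_one, ha, Submodule.mem_colon_singleton, h0, smul_zero]
    exact Submodule.zero_mem _)
  refine ⟨inferInstance, algebraMap _ (E.presheaf.stalk e) a, ?_⟩
  suffices hle : IsLocalRing.maximalIdeal (E.presheaf.stalk e) ≤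
      (⊥ : Submodule (E.presheaf.stalk e) (E.presheaf.stalk e)).colon {algebraMap _ (E.presheaf.stalk e) a} by
    have hne : (⊥ : Submodule (E.presheaf.stalk e) (E.presheaf.stalk e)).colon
        {algebraMap _ (E.presheaf.stalk e) a} ≠ ⊤ := fun h1 => ha0 <| by
      rw [Ideal.eq_top_iff_one, Submodule.mem_colon_singleton, one_smul, Submodule.mem_bot] at h1
      exact (map_eq_zero_iff _ (FaithfulSMul.algebraMap_injective _ _)).1 h1
    rw [← ((IsLocalRing.maximalIdeal.isMaximal _).eq_of_le hne hle)]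
    exact ((IsLocalRing.maximalIdeal.isMaximal _).isPrime.radical).symm
  rw [← Algebra.FormallyUnramified.map_maximalIdeal (R := S.presheaf.stalk (g e)), Ideal.map_le_iff_le_comap]
  intro b hb
  rw [ha, Submodule.mem_colon_singleton, Submodule.mem_bot, smul_eq_mul] at hb
  rw [Ideal.mem_comap, Submodule.mem_colon_singleton, Submodule.mem_bot, smul_eq_mul, ← map_mul, hb, map_zero]

/-- Maximal points are associated. -/
theorem isAssPoint_of_isMin {S : Scheme.{u}} [IsLocallyNoetherian S] (s : S) (hs : ∀ t : S, t ⤳ s → t = s) :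
    Curv2.IsAssPoint (Coh.structureModule S) s := by
  rw [GrothLib.AssPts.isAssPoint_structure_iff]
  obtain ⟨P, hP⟩ := associatedPrimes.nonempty (S.presheaf.stalk s) (S.presheaf.stalk s)
  haveI := IsAssociatedPrime.isPrime hP
  let q : PrimeSpectrum (S.presheaf.stalk s) := ⟨P, inferInstance⟩
  have h1 : S.fromSpecStalk s q ⤳ s := by
    have : S.fromSpecStalk s q ∈ Set.range (S.fromSpecStalk s) := ⟨q, rfl⟩
    rw [Scheme.range_fromSpecStalk] at this
    exact this
  have h2 : q = IsLocalRing.closedPoint (S.presheaf.stalk s) :=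
    (S.fromSpecStalk s).isEmbedding.injective ((hs _ h1).trans Scheme.fromSpecStalk_closedPoint.symm)
  have h3 : P = IsLocalRing.maximalIdeal (S.presheaf.stalk s) := congrArg PrimeSpectrum.asIdeal h2
  rw [← h3]
  exact hP

theorem exists_isMin_specializes {S : Scheme.{u}} (t : S) : ∃ t₀ : S, t₀ ⤳ t ∧ ∀ z : S, z ⤳ t₀ → z = t₀ := by
  let Z := irreducibleComponent t
  obtain ⟨t₀, ht₀⟩ := QuasiSober.sober (isIrreducible_irreducibleComponent (x := t)) isClosed_irreducibleComponent
  have ht : t₀ ⤳ t := ht₀.specializes mem_irreducibleComponent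
  refine ⟨t₀, ht, fun z hz => ?_⟩
  have h1 : irreducibleComponent t ⊆ closure {z} := by
    rw [← ht₀.def]
    exact closure_minimal (Set.singleton_subset_iff.2 (specializes_iff_mem_closure.1 hz)) isClosed_closure
  have h2 := eq_irreducibleComponent (isPreirreducible_singleton.closure) h1
  exact (show IsGenericPoint z (irreducibleComponent t) from h2).eq ht₀

end GrothLib.SchDomAss10
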